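import Mathlib.Topology.ShrinkingLemma
import Mathlib.Topology.Separation.Regular
import Mathlib.Topology.Compactness.LocallyCompact

/-!
# Shrinking coverings of compact subsets compatibly with data on multiple intersections
-/

universe u

open Set

namespace Groth.Agent.CechShrink

variable {X : Type u} [TopologicalSpace X]

/-- Points of `Z` are separated by opens of `X`. -/
def Sep (Z : Set X) : Prop :=
  ∀ z ∈ Z, ∀ z' ∈ Z, z ≠ z' → ∃ A B : Set X, IsOpen A ∧ IsOpen B ∧ z ∈ A ∧ z' ∈ B ∧ Disjoint A B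

lemma sep_compact {Z K L : Set X} (hsep : Sep Z) (hK : IsCompact K) (hL : IsCompact L) (hKZ : K ⊆ Z)
    (hLZ : L ⊆ Z) (hd : Disjoint K L) : SeparatedNhds K L := by
  have h1 : ∀ k ∈ K, SeparatedNhds {k} L := by
    intro k hk
    refine hL.induction_on (p := fun s => SeparatedNhds {k} s) ⟨univ, ∅, isOpen_univ, isOpen_empty, subset_univ _, Subset.rfl, disjoint_empty _⟩
      (fun s t hst ht => ht.mono Subset.rfl hst) (fun s t hs ht => ?_) fun l hl => ?_
    · obtain ⟨A, B, hA, hB, hkA, hsB, hAB⟩ := hs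
      obtain ⟨A', B', hA', hB', hkA', htB', hAB'⟩ := ht
      exact ⟨A ∩ A', B ∪ B', hA.inter hA', hB.union hB', subset_inter hkA hkA',
        union_subset_union hsB htB', (hAB.mono_left inter_subset_left).union_right (hAB'.mono_left inter_subset_right)⟩
    · obtain ⟨A, B, hA, hB, hkA, hlB, hAB⟩ := hsep k (hKZ hk) l (hLZ hl) (fun e => hd.le_bot ⟨hk, e ▸ hl⟩)
      exact ⟨B, mem_nhdsWithin_of_mem_nhds (hB.mem_nhds hlB), A, B, hA, hB, singleton_subset_iff.2 hkA, Subset.rfl, hAB⟩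
  refine hK.induction_on (p := fun s => SeparatedNhds s L) ⟨∅, univ, isOpen_empty, isOpen_univ, Subset.rfl, subset_univ _, empty_disjoint _⟩
    (fun s t hst ht => ht.mono hst Subset.rfl) (fun s t hs ht => ?_) fun k hk => ?_
  · exact hs.union_left ht
  · obtain ⟨A, B, hA, hB, hkA, hLB, hAB⟩ := h1 k hk
    exact ⟨A, mem_nhdsWithin_of_mem_nhds (hA.mem_nhds (singleton_subset_iff.1 hkA)), A, B, hA, hB, Subset.rfl, hLB, hAB⟩

lemma iInter_fin_succ' {n : ℕ} (f : Fin (n + 1) → Set X) : (⋂ l, f l) = f 0 ∩ ⋂ l : Fin n, f l.succ := by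
  ext x; simp [Fin.forall_fin_succ]

/-- Opens around finitely many compact subsets with intersection inside a given open. -/
lemma exists_nhds_iInter_subset {Z : Set X} (hsep : Sep Z) :
    ∀ (n : ℕ) (K : Fin (n + 1) → Set X), (∀ l, IsCompact (K l)) → (∀ l, K l ⊆ Z) →
      ∀ W : Set X, IsOpen W → (⋂ l, K l) ⊆ W →
        ∃ O : Fin (n + 1) → Set X, (∀ l, IsOpen (O l)) ∧ (∀ l, K l ⊆ O l) ∧ (⋂ l, O l) ⊆ W := by
  have hinter : ∀ {K L : Set X}, IsCompact K → IsCompact L → K ⊆ Z → L ⊆ Z → IsCompact (K ∩ L) := by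
    intro K L hK hL hKZ hLZ
    have key : ∀ x ∈ K, x ∉ L → ∃ A, IsOpen A ∧ x ∈ A ∧ Disjoint A L := by
      intro x hx hxL
      obtain ⟨A, B, hA, hB, hxA, hLB, hAB⟩ := sep_compact hsep isCompact_singleton hL (singleton_subset_iff.2 (hKZ hx)) hLZ
        (disjoint_singleton_left.2 hxL)
      exact ⟨A, hA, singleton_subset_iff.1 hxA, hAB.mono_right hLB⟩
    choose! A hA hxA hAL using key
    have hopen : IsOpen (⋃ x ∈ K \ L, A x) := isOpen_biUnion fun x hx => hA x hx.1 hx.2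
    have heq : K ∩ L = K \ ⋃ x ∈ K \ L, A x := by
      ext x
      constructor
      · rintro ⟨hxK, hxL⟩
        refine ⟨hxK, fun h => ?_⟩
        obtain ⟨y, hy, hxy⟩ := mem_iUnion₂.1 h
        exact (hAL y hy.1 hy.2).le_bot ⟨hxy, hxL⟩
      · rintro ⟨hxK, hx⟩
        by_contra h
        exact hx (mem_iUnion₂.2 ⟨x, ⟨hxK, fun hxL => h ⟨hxK, hxL⟩⟩, hxA x hxK fun hxL => h ⟨hxK, hxL⟩⟩)
    rw [heq]
    exact hK.diff hopen
  intro n
  induction n with
  | zero =>
    intro K _ _ W hW h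
    exact ⟨fun _ => W, fun _ => hW, fun l => by
      refine subset_trans ?_ h
      exact subset_iInter fun m => (Fin.fin_one_eq_zero m).symm ▸ (Fin.fin_one_eq_zero l).symm ▸ Subset.rfl,
      iInter_subset _ 0⟩
  | succ n ih =>
    intro K hK hKZ W hW h
    have hR : IsCompact (⋂ l : Fin (n + 1), K l.succ) := by
      clear ih h
      have : ∀ (m : ℕ) (L : Fin (m + 1) → Set X), (∀ l, IsCompact (L l)) → (∀ l, L l ⊆ Z) → IsCompact (⋂ l, L l) := by
        intro m
        induction m with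
        | zero => intro L hL _; simpa [iInter_fin_succ'] using hL 0
        | succ m ihm =>
          intro L hL hLZ
          rw [iInter_fin_succ']
          exact hinter (hL 0) (ihm _ (fun l => hL _) fun l => hLZ _) (hLZ 0) ((iInter_subset _ 0).trans (hLZ _))
      exact this n _ (fun l => hK _) (fun l => hKZ _)
    rw [iInter_fin_succ'] at h
    have hd : Disjoint (K 0 \ W) (⋂ l : Fin (n + 1), K l.succ) :=
      disjoint_left.2 fun x hx hx' => hx.2 (h ⟨hx.1, hx'⟩)
    obtain ⟨A, B, hA, hB, hKA, hRB, hAB⟩ := sep_compact hsep ((hK 0).diff hW) hR (sdiff_subset.trans (hKZ 0))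
      ((iInter_subset _ 0).trans (hKZ _)) hd
    obtain ⟨O, hO, hKO, hOB⟩ := ih (fun l => K l.succ) (fun l => hK _) (fun l => hKZ _) B hB hRB
    have h0 : K 0 ⊆ W ∪ A := by
      intro x hx
      by_cases hxW : x ∈ W
      · exact Or.inl hxW
      · exact Or.inr (hKA ⟨hx, hxW⟩)
    refine ⟨Fin.cons (W ∪ A) O, Fin.cases (hW.union hA) hO, Fin.cases h0 hKO, ?_⟩
    · rw [iInter_fin_succ']
      rintro x ⟨hx0, hx⟩
      simp only [Fin.cons_zero, Fin.cons_succ] at hx0 hx
      exact hx0.elim id fun hxA => (hAB.le_bot ⟨hxA, hOB hx⟩).elim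

/-- The main shrinking statement: `G` prescribes the allowed neighbourhoods of each compact piece. -/
theorem exists_shrink {Z : Set X} (hZ : IsCompact Z) (hsep : Sep Z) {ι : Type u} (U : ι → Set X)
    (hU : ∀ i, IsOpen (U i)) (hcov : Z ⊆ ⋃ i, U i) (p : ℕ) (W : (Fin (p + 1) → ι) → Set X)
    (hWo : ∀ t, IsOpen (W t)) (hWZ : ∀ t, W t ∩ Z = (⋂ l, U (t l)) ∩ Z)
    (Good : ι → Set X → Prop) (hGood : ∀ i K, IsCompact K → K ⊆ Z → K ⊆ U i → ∃ G, IsOpen G ∧ K ⊆ G ∧ Good i G)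
    (hmono : ∀ i G G', G' ⊆ G → Good i G → Good i G') (hempty : ∀ i, Good i ∅) :
    ∃ V : ι → Set X, (∀ i, IsOpen (V i)) ∧ (Z ⊆ ⋃ i, V i) ∧ (∀ i, Good i (V i)) ∧ (∀ i, V i ⊆ U i) ∧
      (∀ t : Fin (p + 1) → ι, (⋂ l, V (t l)) ⊆ W t) := by
  classical
  obtain ⟨s, hs⟩ := hZ.elim_finite_subcover U hU hcov
  haveI : T2Space Z := ⟨fun a b hab => by
    obtain ⟨A, B, hA, hB, ha, hb, hAB⟩ := hsep a.1 a.2 b.1 b.2 (fun e => hab (Subtype.ext e))
    exact ⟨_, _, hA.preimage continuous_subtype_val, hB.preimage continuous_subtype_val, ha, hb, hAB.preimage _⟩⟩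
  haveI : CompactSpace Z := isCompact_iff_compactSpace.1 hZ
  obtain ⟨v, hv, hvc, hvu⟩ := exists_subset_iUnion_closed_subset (X := Z) isClosed_univ
    (u := fun i : s => Subtype.val ⁻¹' U i.1) (fun i => (hU _).preimage continuous_subtype_val)
    (fun x _ => Set.toFinite _) (fun x _ => by
      obtain ⟨i, hi, hx⟩ := mem_iUnion₂.1 (hs x.2)
      exact mem_iUnion.2 ⟨⟨i, hi⟩, hx⟩)
  let K : s → Set X := fun i => Subtype.val '' v i
  have hK : ∀ i, IsCompact (K i) := fun i => (hvc i).isCompact.image continuous_subtype_val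
  have hKZ : ∀ i, K i ⊆ Z := fun i => by rintro _ ⟨x, -, rfl⟩; exact x.2
  have hKU : ∀ i : s, K i ⊆ U i.1 := fun i => by rintro _ ⟨x, hx, rfl⟩; exact hvu i hx
  have hO : ∀ t : Fin (p + 1) → s, ∃ O : Fin (p + 1) → Set X, (∀ l, IsOpen (O l)) ∧ (∀ l, K (t l) ⊆ O l) ∧
      (⋂ l, O l) ⊆ W (fun l => (t l).1) := fun t =>
    exists_nhds_iInter_subset hsep p (fun l => K (t l)) (fun l => hK _) (fun l => hKZ _)
      _ (hWo _) (fun x hx => by
        have hxZ : x ∈ Z := hKZ _ (mem_iInter.1 hx 0)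
        exact ((hWZ _).symm ▸ ⟨mem_iInter.2 fun l => hKU _ (mem_iInter.1 hx l), hxZ⟩ :
          x ∈ W (fun l => (t l).1) ∩ Z).1)
  choose O hOo hKO hOW using hO
  choose G hGo hKG hGg using fun i : s => hGood i.1 (K i) (hK i) (hKZ i) (hKU i)
  let V' : s → Set X := fun i =>
    G i ∩ U i.1 ∩ ⋂ q : {q : (Fin (p + 1) → s) × Fin (p + 1) // q.1 q.2 = i}, O q.1.1 q.1.2
  refine ⟨fun i => if h : i ∈ s then V' ⟨i, h⟩ else ∅, fun i => ?_, ?_, fun i => ?_, fun i => ?_, fun t => ?_⟩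
  · dsimp only
    split_ifs with h
    · exact ((hGo _).inter (hU _)).inter (isOpen_iInter_of_finite fun q => hOo _ _)
    · exact isOpen_empty
  · intro x hx
    obtain ⟨i, hi⟩ := mem_iUnion.1 (hv (mem_univ (⟨x, hx⟩ : Z)))
    have hxK : x ∈ K i := ⟨⟨x, hx⟩, hi, rfl⟩
    refine mem_iUnion.2 ⟨i.1, ?_⟩
    simp only [i.2, dite_true]
    refine ⟨⟨hKG i hxK, hKU i hxK⟩, mem_iInter.2 fun q => hKO _ _ ?_⟩
    rw [q.2]; exact hxK
  · dsimp only
    split_ifs with h
    · exact hmono _ _ _ (inter_subset_left.trans inter_subset_left) (hGg ⟨i, h⟩)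
    · exact hempty i
  · dsimp only
    split_ifs with h
    · exact inter_subset_left.trans inter_subset_right
    · exact empty_subset _
  · intro x hx
    rw [mem_iInter] at hx
    have hts : ∀ l, t l ∈ s := fun l => by
      by_contra h
      have := hx l
      simp [h] at this
    refine hOW (fun l => ⟨t l, hts l⟩) (mem_iInter.2 fun l => ?_)
    have := hx l
    simp only [hts l, dite_true] at this
    exact mem_iInter.1 this.2 ⟨(fun l => ⟨t l, hts l⟩, l), rfl⟩

end Groth.Agent.CechShrink
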